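import Groth.Agent.W4c2seshadripos.K867.Exc
import Groth.Agent.W4c2seshadripos.K850.JetStalk
import Groth.Agent.FlatMor.K258.BlowSmooth
import Groth.Agent.S1682
import Groth.Agent.S2348
import Groth.Agent.S1618
import Groth.Agent.S0558
import Groth.Agent.AutSch.K936.Birational
import Groth.Agent.Variety.K658.RelDimComp
import Groth.Agent.Vancyc.H687.Geo
import Groth.Agent.Models.TorRel
import Groth.Agent.Sga67.BlowReg
import Groth.Agent.VarietyA.RegSmoothSch
import Groth.Agent.CurvesC.RegNormal

/-!
# The blow-up of a closed point of a smooth variety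

`geom`: for `X` proper smooth integral of dimension `n + 1` over `k` algebraically closed and `b` the blow-up of a
closed point: `X'` is integral, smooth of relative dimension `n + 1`, of dimension `n + 1`, and `b_* O_{X'} = O_X`.
`exists_params`: a quasi-regular system of parameters at a closed point.
-/

set_option autoImplicit false
universe u

open AlgebraicGeometry CategoryTheory CategoryTheory.Limits TopologicalSpace

namespace K867.Geom

open Groth.Agent

variable {X X' : Scheme.{u}} {k : Type u} [Field k]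

theorem isRegular (p : X ⟶ Spec (CommRingCat.of k)) [Smooth p] (x : X) : IsRegularLocalRing (X.presheaf.stalk x) :=
  Groth.Agent.VarietyA.RegSmoothSch.isRegularLocalRing_stalk_of_mem_smoothLocus p x
    (by rw [p.smoothLocus_eq_top]; trivial)

theorem isNormalScheme (p : X ⟶ Spec (CommRingCat.of k)) [Smooth p] : Pi1.IsNormalScheme X := fun x =>
  have : IsRegularLocalRing (X.presheaf.stalk x) := isRegular p x
  ⟨Groth.Agent.S0558.result _, Groth.Agent.CurvesC.RegNormal.isIntegrallyClosed _⟩

theorem pointIdeal_ne_bot [IsIntegral X] {x : X} (hx : IsClosed ({x} : Set X)) (h : ∃ y : X, y ≠ x) :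
    W4c2seshadripos.pointIdeal x hx ≠ ⊥ := by
  intro h0
  obtain ⟨y, hy⟩ := h
  have h1 : ((W4c2seshadripos.pointIdeal x hx).support : Set X) = {x} :=
    Scheme.IdealSheafData.coe_support_vanishingIdeal _
  rw [h0, Scheme.IdealSheafData.support_bot] at h1
  have : y ∈ ({x} : Set X) := by rw [← h1]; trivial
  exact hy this

theorem exists_ne (n : ℕ) (hdim : topologicalKrullDim X = ((n + 1 : ℕ) : WithBot ℕ∞)) (x : X) : ∃ y : X, y ≠ x := by
  by_contra hcon
  push Not at hcon
  have : Subsingleton X := ⟨fun a b => (hcon a).trans (hcon b).symm⟩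
  have h1 : topologicalKrullDim X ≤ 0 := by
    unfold topologicalKrullDim
    have : Subsingleton (IrreducibleCloseds X) := by
      refine ⟨fun a b => ?_⟩
      apply IrreducibleCloseds.ext
      obtain ⟨u, hu⟩ := a.2.nonempty
      obtain ⟨v, hv⟩ := b.2.nonempty
      ext w
      exact ⟨fun _ => by rwa [Subsingleton.elim w v], fun _ => by rwa [Subsingleton.elim w u]⟩
    exact Order.krullDim_nonpos_of_subsingleton
  rw [hdim] at h1
  have h2 : ((n + 1 : ℕ) : WithBot ℕ∞) ≤ ((0 : ℕ) : WithBot ℕ∞) := h1
  have h3 : n + 1 ≤ 0 := by exact_mod_cast h2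
  omega

theorem geom [IsAlgClosed k] (p : X ⟶ Spec (CommRingCat.of k)) [IsIntegral X] (n : ℕ)
    [SmoothOfRelativeDimension (n + 1) p] [IsProper p] (x : X) (hx : IsClosed ({x} : Set X)) (b : X' ⟶ X)
    (hb : BlowUp.IsBlowUp b (W4c2seshadripos.pointIdeal x hx)) :
    ∃ _ : IsIntegral X', IsProper b ∧ SmoothOfRelativeDimension (n + 1) (b ≫ p) ∧
      topologicalKrullDim X' = ((n + 1 : ℕ) : WithBot ℕ∞) ∧ ∀ V : X.Opens, IsIso (b.app V) := by
  have hsm : Smooth p := SmoothOfRelativeDimension.smooth (n + 1) p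
  have hdim : topologicalKrullDim X = ((n + 1 : ℕ) : WithBot ℕ∞) :=
    K658.RelDimComp.topologicalKrullDim_eq (n + 1) p
  have hne := exists_ne n hdim x
  obtain ⟨t, ht, htc, -, htk⟩ := Exc.exists_point p x hx
  have hX : IsLocallyNoetherian X := LocallyOfFiniteType.isLocallyNoetherian p
  have hbp : IsProper b := Flat2C.BlowProper.isProper_of_isBlowUp hb
    (fun U => (hX.component_noetherian U).noetherian ((W4c2seshadripos.pointIdeal x hx).ideal U))
  obtain ⟨hint, -, -⟩ := S2348.result _ (pointIdeal_ne_bot hx hne) b hb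
  have hsm' : Smooth (b ≫ p) := by
    have h1 : Smooth (t ≫ p) := by rw [ht]; infer_instance
    rw [← htk] at hb
    exact (K258.BlowSmooth.main_ker p t b hb).1
  let U : X.Opens := (W4c2seshadripos.pointIdeal x hx).support.compl
  have hiso : IsIso (b ∣_ U) := S1682.result _ b hb
  have hU : (U : Set X).Nonempty := by
    obtain ⟨y, hy⟩ := hne
    refine ⟨y, fun h => hy ?_⟩
    have h1 : ((W4c2seshadripos.pointIdeal x hx).support : Set X) = {x} :=
      Scheme.IdealSheafData.coe_support_vanishingIdeal _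
    have h2 : y ∈ ((W4c2seshadripos.pointIdeal x hx).support : Set X) := h
    rw [h1] at h2
    exact h2
  have hdim' : topologicalKrullDim X' = ((n + 1 : ℕ) : WithBot ℕ∞) := by
    let e : ((b ⁻¹ᵁ U : X'.Opens) : Scheme.{u}) ≅ (U : Scheme.{u}) := asIso (b ∣_ U)
    have hU' : ((b ⁻¹ᵁ U : X'.Opens) : Set X').Nonempty := by
      obtain ⟨y, hy⟩ := hU
      obtain ⟨z, -⟩ := (b ∣_ U).surjective ⟨y, hy⟩
      exact ⟨z.1, z.2⟩
    let : X.Over (Spec (CommRingCat.of k)) := ⟨p⟩
    let : X'.Over (Spec (CommRingCat.of k)) := ⟨b ≫ p⟩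
    have h1 : LocallyOfFiniteType (X ↘ Spec (CommRingCat.of k)) := inferInstanceAs (LocallyOfFiniteType p)
    have h2 : LocallyOfFiniteType (X' ↘ Spec (CommRingCat.of k)) := inferInstanceAs (LocallyOfFiniteType (b ≫ p))
    rw [← S1618.result k X' (b ⁻¹ᵁ U) hU', ← hdim, ← S1618.result k X U hU]
    exact IsHomeomorph.topologicalKrullDim_eq _ (Scheme.homeoOfIso e).isHomeomorph
  have hrel : SmoothOfRelativeDimension (n + 1) (b ≫ p) := by
    have h1 : Smooth (𝟙 X' ≫ b ≫ p) := by rw [Category.id_comp]; exact hsm'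
    have h2 := Vancyc.H687.Geo.smoothOfRelativeDimension (b ≫ p) (𝟙 X') (n + 1) hdim'
    rwa [Category.id_comp] at h2
  have hX' : IsLocallyNoetherian X' := LocallyOfFiniteType.isLocallyNoetherian (b ≫ p)
  exact ⟨hint, hbp, hrel, hdim', K936.Birational.isIso_app (isNormalScheme p) b U hU hiso⟩

/-- A quasi-regular system of parameters of positive length at a closed point. -/
theorem exists_params (p : X ⟶ Spec (CommRingCat.of k)) [IsIntegral X] [Smooth p] (x : X)
    (hx : IsClosed ({x} : Set X)) (hne : ∃ y : X, y ≠ x) :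
    ∃ (c : ℕ) (f : Fin (c + 1) → X.presheaf.stalk x), CAlgX.IsQuasiRegular f ∧
      IsLocalRing.maximalIdeal (X.presheaf.stalk x) = Ideal.span (Set.range f) := by
  have := isRegular p x
  obtain ⟨rs, h1, h2⟩ := Models.TorRel.exists_regular_system (X.presheaf.stalk x)
  have hlen : rs ≠ [] := by
    rintro rfl
    rw [Ideal.ofList_nil] at h1
    have hf : IsField (X.presheaf.stalk x) := IsLocalRing.isField_iff_maximalIdeal_eq.2 h1.symm
    obtain ⟨y, hy⟩ := hne
    have hη : genericPoint X ∈ Set.range (X.fromSpecStalk x) := by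
      rw [Scheme.range_fromSpecStalk]
      exact genericPoint_specializes x
    obtain ⟨z, hz⟩ := hη
    have hsub : ∀ z : PrimeSpectrum (X.presheaf.stalk x), z = IsLocalRing.closedPoint (X.presheaf.stalk x) := by
      let := hf.toField
      intro z
      exact Subsingleton.elim (α := PrimeSpectrum (X.presheaf.stalk x)) z _
    have h3 : genericPoint X = x := by
      rw [← hz, hsub z]
      exact X.fromSpecStalk_closedPoint
    have h4 : genericPoint X ⤳ y := genericPoint_specializes y
    rw [h3] at h4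
    exact hy (h4.mem_closed hx rfl)
  obtain ⟨a, as, rfl⟩ := List.exists_cons_of_ne_nil hlen
  refine ⟨as.length, (a :: as).get, ?_, ?_⟩
  · refine Sga67.BlowReg.isQuasiRegular_of_isWeaklyRegular (A := X.presheaf.stalk x) _ ?_
    have h3 : List.ofFn (a :: as).get = a :: as := List.ofFn_get _
    rw [h3]
    exact h2.toIsWeaklyRegular
  · rw [← h1, Ideal.ofList]
    congr 1
    ext z
    rw [Set.mem_range]
    exact List.mem_iff_get.trans Iff.rfl

end K867.Geom
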