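import Groth.Agent.W4c2seshadripos.K867.Inter
import Groth.Agent.Variety.K432.NefBasic
import Groth.Agent.Vanish.K909.NefIff
import Groth.Agent.Fga.EulerLEAdd
import Mathlib.Algebra.Order.Archimedean.Real.Basic

/-!
# Nefness and positivity of `π^*L - s E` below the Seshadri constant

* `nef_combo`: if `L` is nef and `deg L|_C + t deg I_E|_C ≥ 0` for all curves then `L^p ⊗ I_E^q` is nef for `q ≤ t p`.
* `pos_combo`: if moreover `E = P^n` with `L|_E` trivial and `I_E|_E = O(1)` on an `(n+1)`-dimensional scheme, then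
  `((L ⊗ I_E^s)^(n+1)) > 0` for `s < t`.
-/

set_option autoImplicit false
universe u
open CategoryTheory CategoryTheory.Limits AlgebraicGeometry TopologicalSpace

namespace K867.Pos

open Groth.Agent Groth.Agent.Fga.PicMon Groth.Agent.Grpsch.PicGrp K909.InterML K909.Kleiman K432.CurveDeg

section deg

variable (k : Type u) [Field k]

theorem curveDeg_eq_dg {Y : Scheme.{u}} (s : Y ⟶ Spec (CommRingCat.of k)) [IsProper s]
    (h1 : topologicalKrullDim Y ≤ (1 : ℕ)) (M : Y.Modules) : Pic13.curveDeg k s M = dg s M := by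
  letI : Y.Over (Spec (CommRingCat.of k)) := ⟨s⟩
  haveI : IsProper (Y ↘ Spec (CommRingCat.of k)) := ‹IsProper s›
  have := Fga.IntAdd.isNoetherian k Y
  change FGA.eulerCharLE k Y M 1 - FGA.eulerCharLE k Y (Coh.structureModule Y) 1 = Curv2.deg k Y M 1
  rw [Fga.EulerLEAdd.eulerCharLE_eq_euler k Y 1 h1, Fga.EulerLEAdd.eulerCharLE_eq_euler k Y 1 h1]
  unfold Curv2.deg
  simp

theorem dg_eq_degc {Y : Scheme.{u}} [Y.Over (Spec (CommRingCat.of k))] [IsProper (Y ↘ Spec (CommRingCat.of k))]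
    (h1 : topologicalKrullDim Y ≤ (1 : ℕ)) (M : Y.Modules) (hM : PicF.IsInvertible M) :
    dg (Y ↘ Spec (CommRingCat.of k)) M = degc k Y 1 (mk M hM) := by
  rw [← curveDeg_eq_dg k _ h1, curveDeg_eq_degc k Y 1 h1 M hM h1]

variable {k}

theorem dg_combo {X Y : Scheme.{u}} (s : Y ⟶ Spec (CommRingCat.of k)) [IsProper s]
    (h1 : topologicalKrullDim Y ≤ (1 : ℕ)) (i : Y ⟶ X) {L P : X.Modules} (hL : PicF.IsInvertible L)
    (hP : PicF.IsInvertible P) (p q : ℕ) :
    dg s ((Scheme.Modules.pullback i).obj (combo X L P p q)) =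
      p * dg s ((Scheme.Modules.pullback i).obj L) + q * dg s ((Scheme.Modules.pullback i).obj P) := by
  letI : Y.Over (Spec (CommRingCat.of k)) := ⟨s⟩
  haveI : IsProper (Y ↘ Spec (CommRingCat.of k)) := ‹IsProper s›
  have h2 := dg_eq_degc k h1 _ (Fdesc.LocGen.isInvertible_pullback i (isInvertible_combo X hL hP p q))
  have h3 := dg_eq_degc k h1 _ (Fdesc.LocGen.isInvertible_pullback i hL)
  have h4 := dg_eq_degc k h1 _ (Fdesc.LocGen.isInvertible_pullback i hP)
  have h5 : mk _ (Fdesc.LocGen.isInvertible_pullback i (isInvertible_combo X hL hP p q)) =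
      mk _ (Fdesc.LocGen.isInvertible_pullback i hL) ^ p * mk _ (Fdesc.LocGen.isInvertible_pullback i hP) ^ q := by
    rw [← pull_mk i (isInvertible_combo X hL hP p q), mk_combo X hL hP, map_mul, map_pow, map_pow, pull_mk i hL,
      pull_mk i hP]
  rw [h5, degc_mul k Y 1 h1 h1, degc_pow k Y 1 h1 h1, degc_pow k Y 1 h1 h1] at h2
  change dg (Y ↘ Spec (CommRingCat.of k)) _ = p * dg (Y ↘ Spec (CommRingCat.of k)) _ +
    q * dg (Y ↘ Spec (CommRingCat.of k)) _
  rw [h2, h3, h4]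

end deg

section nef

variable {k : Type u} [Field k] {X : Scheme.{u}} [X.Over (Spec (CommRingCat.of k))]
  [IsProper (X ↘ Spec (CommRingCat.of k))]

/-- The two forms of nefness. -/
theorem nef_of_nef {L : X.Modules} (hL : PicF.IsInvertible L)
    (h : K432.NefBasic.Nef (X ↘ Spec (CommRingCat.of k)) L) : K909.Kleiman.Nef k X L := by
  intro Y i _ hY hdim
  have h1 : IsProper (i ≫ (X ↘ Spec (CommRingCat.of k))) := inferInstance
  rw [curveDeg_eq_dg k _ (by rw [hdim]; exact le_refl _)]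
  exact h.dg_nonneg hL hdim i

theorem arith {p q : ℕ} {a b : ℤ} {t : ℝ} (ha : 0 ≤ a) (h : (0 : ℝ) ≤ (a : ℝ) + t * (b : ℝ)) (hpq : (q : ℝ) ≤ t * p) :
    0 ≤ (p : ℤ) * a + (q : ℤ) * b := by
  rcases le_or_gt 0 b with hb | hb
  · positivity
  · have h1 : (0 : ℝ) ≤ (p : ℝ) * (a : ℝ) + (q : ℝ) * (b : ℝ) := by
      have hb' : (b : ℝ) ≤ 0 := by exact_mod_cast hb.le
      have h2 : t * p * b ≤ q * (b : ℝ) := mul_le_mul_of_nonpos_right hpq hb'
      have h3 : (0 : ℝ) ≤ p * ((a : ℝ) + t * (b : ℝ)) := mul_nonneg (Nat.cast_nonneg p) h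
      nlinarith
    exact_mod_cast h1

/-- `L^p ⊗ P^q` is nef for `q ≤ t p`. -/
theorem nef_combo {L P : X.Modules} (hL : PicF.IsInvertible L) (hP : PicF.IsInvertible P)
    (hnef : K432.NefBasic.Nef (X ↘ Spec (CommRingCat.of k)) L) (t : ℝ)
    (hε : ∀ C : X.IdealSheafData, IsIntegral C.subscheme → topologicalKrullDim (C.support : Set X) = 1 →
      (0 : ℝ) ≤ (dg (C.subschemeι ≫ (X ↘ Spec (CommRingCat.of k))) ((Scheme.Modules.pullback C.subschemeι).obj L) : ℝ) +
        t * (dg (C.subschemeι ≫ (X ↘ Spec (CommRingCat.of k))) ((Scheme.Modules.pullback C.subschemeι).obj P) : ℝ))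
    (p q : ℕ) (hpq : (q : ℝ) ≤ t * p) : K909.Kleiman.Nef k X (combo X L P p q) := by
  refine nef_of_nef (isInvertible_combo X hL hP p q) ?_
  intro C hC hdim
  have h1 : topologicalKrullDim C.subscheme ≤ (1 : ℕ) := by
    rw [K432.NefBasic.topologicalKrullDim_subscheme, hdim]
    exact le_refl _
  rw [dg_combo _ h1 C.subschemeι hL hP p q]
  exact arith (hnef C hC hdim) (hε C hC hdim) hpq

end nef

section pos

variable {k : Type u} [Field k] (nak : Nak.{u} k) {X : Scheme.{u}} [X.Over (Spec (CommRingCat.of k))]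
  [IsProper (X ↘ Spec (CommRingCat.of k))] (n : ℕ)
  (i : CohB1.ProjSpace n k ⟶ X) [IsClosedImmersion i]
  (hi : i ≫ (X ↘ Spec (CommRingCat.of k)) = CohB1.ProjSpace.toSpec n k)
  (hn : topologicalKrullDim X ≤ (n + 1 : ℕ))
  (I : X.IdealSheafData) (hI : i.ker = I) (hinv : PicF.IsInvertible (ClSub.idealMod I))
  (hO1 : Nonempty ((Scheme.Modules.pullback i).obj (ClSub.idealMod I) ≅ Twist.twistProjSpace n k 1))
  {L : X.Modules} (hL : PicF.IsInvertible L) (hL1 : pull i (mk L hL) = 1)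
  (A : X.Modules) (hA : CohB1.IsAmple A)

include nak hi hn hI hinv hO1 hL1 hA in
/-- `p^(n+1) (L^(n+1)) ≥ q^(n+1)` if `L^p ⊗ I^q` is nef. -/
theorem pow_le (p q : ℕ) (hnef : K909.Kleiman.Nef k X (combo X L (ClSub.idealMod I) p q)) :
    (q : ℤ) ^ (n + 1) ≤ (p : ℤ) ^ (n + 1) *
      inter k X (n + 1) (Coh.structureModule X) (fun _ : Fin (n + 1) => mk L hL) := by
  have h1 := nonneg_mixed (d := n + 1) nak hn hnef (isInvertible_combo X hL hinv p q) hA (r := n + 1)
    (Coh.structureModule X) (by have := Fga.IntAdd.isNoetherian k X; exact CurvesC.UnitCoh.isCoh_unit X)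
    (Inter.dim_support_unit hn) (fun _ => mk _ (isInvertible_combo X hL hinv p q)) (fun _ => Or.inl rfl)
  rw [mk_combo X hL hinv, Inter.inter_combo k n i hi (n + 1) hn hn (Nat.le_succ n) I hI hinv hO1 _ hL1] at h1
  linarith

include nak hi hn hI hO1 hL1 hA in
/-- **Positivity of the top self-intersection below the Seshadri constant.** -/
theorem pos_combo (hnefL : K432.NefBasic.Nef (X ↘ Spec (CommRingCat.of k)) L) (t : ℝ)
    (hε : ∀ C : X.IdealSheafData, IsIntegral C.subscheme → topologicalKrullDim (C.support : Set X) = 1 →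
      (0 : ℝ) ≤ (dg (C.subschemeι ≫ (X ↘ Spec (CommRingCat.of k))) ((Scheme.Modules.pullback C.subschemeι).obj L) : ℝ) +
        t * (dg (C.subschemeι ≫ (X ↘ Spec (CommRingCat.of k)))
          ((Scheme.Modules.pullback C.subschemeι).obj (ClSub.idealMod I)) : ℝ))
    (s : ℕ) (hs : (s : ℝ) < t) :
    0 < inter k X (n + 1) (Coh.structureModule X)
      (fun _ : Fin (n + 1) => mk (combo X L (ClSub.idealMod I) 1 s) (isInvertible_combo X hL hinv 1 s)) := by
  obtain ⟨r, hr1, hr2⟩ := exists_rat_btwn hs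
  have hr0 : 0 < r := by
    have : (0 : ℝ) < r := lt_of_le_of_lt (Nat.cast_nonneg s) hr1
    exact_mod_cast this
  obtain ⟨q, hq⟩ := Int.eq_ofNat_of_zero_le (Rat.num_nonneg.2 hr0.le)
  have hp : 0 < r.den := r.den_pos
  have hrq : (r : ℝ) * r.den = q := by
    have h1 : (r : ℚ) * r.den = q := by
      rw [Rat.mul_den_eq_num, hq]
      simp
    exact_mod_cast h1
  have hp' : (0 : ℝ) < (r.den : ℝ) := by exact_mod_cast hp
  have h1 := pow_le nak n i hi hn I hI hinv hO1 hL hL1 A hA r.den q (nef_combo hL hinv hnefL t hε r.den q (by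
    rw [← hrq]
    exact mul_le_mul_of_nonneg_right hr2.le hp'.le))
  set N := inter k X (n + 1) (Coh.structureModule X) (fun _ : Fin (n + 1) => mk L hL) with hN
  have h2 : (s : ℤ) * r.den < q := by
    have : (s : ℝ) * r.den < q := by
      rw [← hrq]
      exact mul_lt_mul_of_pos_right hr1 hp'
    exact_mod_cast this
  have h3 : ((s : ℤ) * r.den) ^ (n + 1) < (q : ℤ) ^ (n + 1) :=
    pow_lt_pow_left₀ h2 (by positivity) (Nat.succ_ne_zero n)
  have h4 : (s : ℤ) ^ (n + 1) * (r.den : ℤ) ^ (n + 1) < N * (r.den : ℤ) ^ (n + 1) := by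
    rw [← mul_pow, mul_comm N]
    exact lt_of_lt_of_le h3 h1
  have h5 : (s : ℤ) ^ (n + 1) < N := lt_of_mul_lt_mul_right h4 (by positivity)
  rw [mk_combo X hL hinv, Inter.inter_combo k n i hi (n + 1) hn hn (Nat.le_succ n) I hI hinv hO1 _ hL1, Nat.cast_one, one_pow,
    one_mul]
  omega

end pos

end K867.Pos
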