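import Groth.Agent.W4c2seshadripos.K867.Jets
import Groth.Agent.W4c2seshadripos.K867.Pos
import Groth.Agent.W4c2seshadripos.K867.Geom
import Groth.Agent.Variety.K343.CanonBlow
import Groth.Agent.Surf.K461.SerreDual
import Groth.Agent.Surf.K455.Canon
import Groth.Agent.Sga67.BlowAmple
import Groth.Agent.Vanish.K909.NakOf
import Groth.Agent.Etcore.RootCover
import Groth.Agent.Dix.IdealModCartier
import Groth.Agent.Ega2.QCohLocal

/-!
# Jets from Seshadri constants, relative to Kawamata–Viehweg vanishing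
-/

set_option autoImplicit false
universe u
open CategoryTheory CategoryTheory.Limits AlgebraicGeometry TopologicalSpace

namespace K867.Main

open Groth.Agent Groth.Agent.Grpsch.PicGrp K909.Kleiman K909.InterML

/-- The statement of S16897 over `k`. -/
def KV (k : Type u) [Field k] : Prop :=
  ∀ (X : Scheme.{u}) [X.Over (Spec (CommRingCat.of k))] [IsProper (X ↘ Spec (CommRingCat.of k))]
    [Smooth (X ↘ Spec (CommRingCat.of k))] [IrreducibleSpace X] (n : ℕ) (_ : topologicalKrullDim X = n)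
    (H : X.Modules) (_ : CohB1.IsAmple H) (L Linv : X.Modules) (_ : PicF.IsInvertible L)
    (_ : ClSub.IsInverseOf Linv L)
    (_ : (∀ (Y : Scheme.{u}) (i : Y ⟶ X) [IsClosedImmersion i], IsIntegral Y → topologicalKrullDim Y = 1 →
      0 ≤ Pic13.curveDeg k (i ≫ (X ↘ Spec (CommRingCat.of k))) ((Scheme.Modules.pullback i).obj L)))
    (_ : 0 < FGA.intNum k X n (fun _ : Fin n => Linv) (Coh.structureModule X))
    (b : ℕ) (_ : b < n), Subsingleton (Coh.HH X Linv b)

theorem isProper_over {k : Type u} [Field k] {X X' : Scheme.{u}} [X.Over (Spec (CommRingCat.of k))]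
    [X'.Over (Spec (CommRingCat.of k))] [IsProper (X ↘ (Spec (CommRingCat.of k)))] {b : X' ⟶ X} [IsProper b]
    (hb : b ≫ (X ↘ (Spec (CommRingCat.of k))) = X' ↘ (Spec (CommRingCat.of k))) :
    IsProper (X' ↘ (Spec (CommRingCat.of k))) := by
  rw [← hb]; infer_instance

/-- The case of dimension zero. -/
theorem separatesJets_of_subsingleton {X : Scheme.{u}} [Subsingleton X] (F : X.Modules) (x : X)
    (hx : IsClosed ({x} : Set X)) (l : ℕ) : W4c2seshadripos.SeparatesJets F x hx l := by
  rw [K850.JetStalk.separatesJets_iff]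
  intro t
  obtain ⟨s, hs⟩ := (K850.JetStalk.germ_bijective_of_subsingleton F x).2 t
  refine ⟨s, ?_⟩
  rw [hs, sub_self]
  exact zero_mem _

section

variable {k : Type u} [Field k] [IsAlgClosed k] (kv : KV.{u} k) (nak : Nak.{u} k)
  {X : Scheme.{u}} [X.Over (Spec (CommRingCat.of k))] [IsIntegral X] (n : ℕ)
  [SmoothOfRelativeDimension (n + 1) (X ↘ (Spec (CommRingCat.of k)))] [IsProper (X ↘ (Spec (CommRingCat.of k)))]
  (A : X.Modules) (hA : CohB1.IsAmple A)
  (ω : X.Modules) (hω : Canon.IsTopDiff (X ↘ (Spec (CommRingCat.of k))) (n + 1) ω)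
  (L : X.Modules) (hL : PicF.IsInvertible L)
  (hnef : K432.NefBasic.Nef (X ↘ (Spec (CommRingCat.of k))) L)
  (x : X) (hx : IsClosed ({x} : Set X)) (l : ℕ)
  {X' : Scheme.{u}} [X'.Over (Spec (CommRingCat.of k))] (b : X' ⟶ X)
  (hb : b ≫ (X ↘ (Spec (CommRingCat.of k))) = X' ↘ (Spec (CommRingCat.of k)))
  (hbl : BlowUp.IsBlowUp b (W4c2seshadripos.pointIdeal x hx))
  (t : ℝ) (ht : (((n + 1 : ℕ) : ℝ) + l) < t)
  (hε : ∀ C : X'.IdealSheafData, IsIntegral C.subscheme → topologicalKrullDim (C.support : Set X') = 1 →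
      (0 : ℝ) ≤ (K432.CurveDeg.dg (C.subschemeι ≫ (X' ↘ (Spec (CommRingCat.of k))))
        ((Scheme.Modules.pullback C.subschemeι).obj ((Scheme.Modules.pullback b).obj L)) : ℝ) +
        t * (K432.CurveDeg.dg (C.subschemeι ≫ (X' ↘ (Spec (CommRingCat.of k))))
          ((Scheme.Modules.pullback C.subschemeι).obj
            (ClSub.idealMod (BlowUp.exceptional b (W4c2seshadripos.pointIdeal x hx)))) : ℝ))

include kv nak hA hω hL hnef hb hbl ht hε in
/-- The positive-dimensional case. -/
theorem main_succ : W4c2seshadripos.SeparatesJets (CohB1.tensorMod ω L) x hx l := by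
  have hsm : Smooth (X ↘ (Spec (CommRingCat.of k))) :=
    SmoothOfRelativeDimension.smooth (n + 1) (X ↘ (Spec (CommRingCat.of k)))
  obtain ⟨hint, hbp, hrel, hdim', hO⟩ := Geom.geom (X ↘ (Spec (CommRingCat.of k))) n x hx b hbl
  rw [hb] at hrel
  have hP' : IsProper (X' ↘ (Spec (CommRingCat.of k))) := isProper_over hb
  have hsm' : Smooth (X' ↘ (Spec (CommRingCat.of k))) :=
    SmoothOfRelativeDimension.smooth (n + 1) (X' ↘ (Spec (CommRingCat.of k)))
  have hdim : topologicalKrullDim X = ((n + 1 : ℕ) : WithBot ℕ∞) :=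
    K658.RelDimComp.topologicalKrullDim_eq (n + 1) (X ↘ (Spec (CommRingCat.of k)))
  have hne := Geom.exists_ne n hdim x
  obtain ⟨t₀, ht₀, htc, hrange, hker⟩ := Exc.exists_point (X ↘ (Spec (CommRingCat.of k))) x hx
  have hbl' : BlowUp.IsBlowUp b t₀.ker := by rw [hker]; exact hbl
  obtain ⟨i, hic, hib, hik, hO1⟩ := Exc.exists_exc n (X ↘ (Spec (CommRingCat.of k))) t₀ ht₀ b hbl'
  rw [hker] at hik hO1
  set I := W4c2seshadripos.pointIdeal x hx with hI
  set D := BlowUp.exceptional b I with hD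
  have hP : PicF.IsInvertible (ClSub.idealMod D) := Dix.IdealModCartier.isInvertible_idealMod hbl.1
  let Lt := (Scheme.Modules.pullback b).obj L
  have hLt : PicF.IsInvertible Lt := Fdesc.LocGen.isInvertible_pullback b hL
  have hnefLt : K432.NefBasic.Nef (X' ↘ (Spec (CommRingCat.of k))) Lt := by
    have hPb : IsProper (b ≫ (X ↘ (Spec (CommRingCat.of k)))) := by rw [hb]; exact hP'
    have h := hnef.pullback hL b
    rw [hb] at h
    exact h
  have hi : i ≫ (X' ↘ (Spec (CommRingCat.of k))) = CohB1.ProjSpace.toSpec n k := by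
    rw [← hb, ← Category.assoc, hib, Category.assoc, ht₀, Category.comp_id]
  -- `L` is trivial on the exceptional divisor
  have hL1 : pull i (mk Lt hLt) = 1 := by
    have hconst : ∀ z, (i ≫ b) z = x := by
      intro z
      have h1 : (i ≫ b) z ∈ Set.range t₀ := by
        rw [hib, Scheme.Hom.comp_apply]
        exact ⟨_, rfl⟩
      rw [hrange] at h1
      exact h1
    obtain ⟨e⟩ := K432.CurveDeg.nonempty_pullback_iso_of_const (i ≫ b) x hconst L hL
    rw [pull_mk, mk_eq_one_iff]
    exact ⟨(Scheme.Modules.pullbackComp i b).app L ≪≫ e⟩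
  obtain ⟨A', hA'⟩ := Sga67.BlowAmple.exists_isAmple hbl A hA
  -- the module `M = b^*L ⊗ I_E^(n + 1 + l)`
  let s : ℕ := n + 1 + l
  have hs : (s : ℝ) < t := by
    have : (s : ℝ) = ((n + 1 : ℕ) : ℝ) + l := by push_cast [s]; ring
    rw [this]; exact ht
  let M := combo X' Lt (ClSub.idealMod D) 1 s
  have hM : PicF.IsInvertible M := isInvertible_combo X' hLt hP 1 s
  have hMnef : K909.Kleiman.Nef k X' M := Pos.nef_combo hLt hP hnefLt t hε 1 s (by
    rw [Nat.cast_one, mul_one]; exact hs.le)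
  have hMpos := Pos.pos_combo nak n i hi hdim'.le D hik hP hO1 hLt hL1 A' hA' hnefLt t hε s hs
  let M' := dual M
  have hM' : PicF.IsInvertible M' := isInvertible_dual hM
  have hMM' : mk M hM * mk M' hM' = 1 := by rw [← inv_mk hM, mul_inv_cancel]
  have hMM'' : Nonempty (CohB1.tensorMod M M' ≅ Coh.structureModule X') := by
    rw [← mk_eq_one_iff (Fdesc.LocGen.isInvertible_tensorMod hM hM')]
    exact hMM'
  have hM'M : Nonempty (CohB1.tensorMod M' M ≅ Coh.structureModule X') := by
    rw [← mk_eq_one_iff (Fdesc.LocGen.isInvertible_tensorMod hM' hM)]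
    rw [mul_comm] at hMM'
    exact hMM'
  have hbig : 0 < FGA.intNum k X' (n + 1) (fun _ : Fin (n + 1) => M') (Coh.structureModule X') := by
    rw [← inter_mk k X' (n + 1) (Coh.structureModule X') (fun _ : Fin (n + 1) => M) (fun _ => M') (fun _ => hM)
      (fun _ => hM') (fun _ => hMM'')]
    exact hMpos
  have hvan : Subsingleton (Coh.HH X' M' n) :=
    kv X' (n + 1) hdim' A' hA' M M' hM hM'M hMnef hbig n (Nat.lt_succ_self n)
  -- Serre duality
  obtain ⟨W', hW', hW'i⟩ := K455.Canon.exists_canonical (X' ↘ (Spec (CommRingCat.of k))) (n + 1)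
  have hq : Coh.IsQCoh M' := Ega2.QCohLocal.isQCoh_of_isInvertible hM'
  obtain ⟨eS⟩ := K461.SerreDual.nonempty_dual_equiv k (n + 1) hW' hM'M hq 1 n (by omega)
  have hH1 : Subsingleton (Coh.HH X' (CohB1.tensorMod W' M) 1) := by
    have : Subsingleton (Module.Dual k (Coh.HH X' M' n)) := by
      refine ⟨fun f g => LinearMap.ext fun v => ?_⟩
      rw [Subsingleton.elim v 0, map_zero, map_zero]
    exact eS.symm.toEquiv.subsingleton
  -- the canonical module of the blow-up
  let P' := dual (ClSub.idealMod D)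
  have hP'i : PicF.IsInvertible P' := isInvertible_dual hP
  have hωi : PicF.IsInvertible ω := K455.Canon.isInvertible (X ↘ (Spec (CommRingCat.of k))) (n + 1) hω
  have hcan : Nonempty (W' ≅ CohB1.tensorMod ((Scheme.Modules.pullback b).obj ω) (CohB1.tensorPow P' n)) := by
    have h0 : SmoothOfRelativeDimension 0 (t₀ ≫ (X ↘ (Spec (CommRingCat.of k)))) := by
      rw [ht₀]; infer_instance
    have h1 : (1 : WithBot ℕ∞) ≤ ringKrullDim (X.presheaf.stalk (t₀ (genericPoint (Spec (CommRingCat.of k))))) := by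
      refine K343.BlowInt.one_le_ringKrullDim (X ↘ (Spec (CommRingCat.of k))) t₀ (n + 1) (n + 1) (by omega) hdim ?_
      have h2 : topologicalKrullDim (Spec (CommRingCat.of k)) = 0 := by
        have h3 : topologicalKrullDim (PrimeSpectrum k) = ringKrullDim k :=
          PrimeSpectrum.topologicalKrullDim_eq_ringKrullDim k
        have h4 : ringKrullDim k = 0 := ringKrullDim_eq_zero_of_field k
        exact h3.trans h4
      rw [h2, zero_add]
    refine K343.CanonBlow.main (X ↘ (Spec (CommRingCat.of k))) t₀ (d := 0) (r := n) (n := n + 1) (by omega) hbl' h1 P'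
      ?_ ω hω W' ?_
    · rw [hker]
      change Nonempty _
      rw [← mk_eq_one_iff (Fdesc.LocGen.isInvertible_tensorMod hP'i hP)]
      have : mk P' hP'i * mk (ClSub.idealMod D) hP = 1 := by rw [← inv_mk hP, inv_mul_cancel]
      exact this
    · rw [hb]; exact hW'
  obtain ⟨eW⟩ := hcan
  have hF : PicF.IsInvertible (CohB1.tensorMod ω L) := Fdesc.LocGen.isInvertible_tensorMod hωi hL
  have hH2 : Subsingleton (Coh.HH X' (CohB1.tensorMod ((Scheme.Modules.pullback b).obj (CohB1.tensorMod ω L))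
      (CohB1.tensorPow (ClSub.idealMod D) (l + 1))) 1) := by
    have h1 : mk (CohB1.tensorMod W' M) (Fdesc.LocGen.isInvertible_tensorMod hW'i hM) =
        mk (CohB1.tensorMod ((Scheme.Modules.pullback b).obj (CohB1.tensorMod ω L))
          (CohB1.tensorPow (ClSub.idealMod D) (l + 1)))
          (Fdesc.LocGen.isInvertible_tensorMod (Fdesc.LocGen.isInvertible_pullback b hF)
            (Fdesc.LocGen.isInvertible_tensorPow hP (l + 1))) := by
      rw [← mk_mul_mk hW'i hM, ← mk_mul_mk (Fdesc.LocGen.isInvertible_pullback b hF)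
        (Fdesc.LocGen.isInvertible_tensorPow hP (l + 1)), mk_tensorPow hP, ← pull_mk b hF, ← mk_mul_mk hωi hL, map_mul]
      have h2 : mk W' hW'i = pull b (mk ω hωi) * mk P' hP'i ^ n := by
        rw [pull_mk, ← mk_tensorPow hP'i, mk_mul_mk]
        exact mk_congr eW
      have h3 : mk M hM = pull b (mk L hL) ^ 1 * mk (ClSub.idealMod D) hP ^ s := by
        rw [mk_combo, pull_mk]
      have h4 : mk P' hP'i = (mk (ClSub.idealMod D) hP)⁻¹ := (inv_mk hP).symm
      rw [h2, h3, h4, pow_one]
      have h5 : (mk (ClSub.idealMod D) hP)⁻¹ ^ n * mk (ClSub.idealMod D) hP ^ s =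
          mk (ClSub.idealMod D) hP ^ (l + 1) := by
        have : s = n + (l + 1) := by omega
        rw [this, pow_add, ← mul_assoc, inv_pow, inv_mul_cancel, one_mul]
      rw [← h5]
      simp only [mul_assoc, mul_left_comm, mul_comm]
    obtain ⟨e⟩ := (mk_eq_iff _ _).1 h1
    exact Sga2.ThickCoh.subsingleton_HH_of_iso e 1 hH1
  obtain ⟨c, f, hf, hm⟩ := Geom.exists_params (X ↘ (Spec (CommRingCat.of k))) x hx hne
  exact Jets.separatesJets_of_vanish hO x hx hbl f hf 0 hm hF
    (K432.CurveDeg.hasBases_of_isInvertible hF) l hH2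

end

/-- **S15257** relative to Kawamata–Viehweg vanishing and the Nakai–Moishezon criterion. -/
theorem main {k : Type u} [Field k] [IsAlgClosed k] (kv : KV.{u} k) (nak : Nak.{u} k)
    (X : Scheme.{u}) [X.Over (Spec (CommRingCat.of k))] [IsIntegral X] (n : ℕ)
    [SmoothOfRelativeDimension n (X ↘ (Spec (CommRingCat.of k)))] [IsProper (X ↘ (Spec (CommRingCat.of k)))]
    (A : X.Modules) (hA : CohB1.IsAmple A)
    (ω : X.Modules) (hω : Canon.IsTopDiff (X ↘ (Spec (CommRingCat.of k))) n ω)
    (L : X.Modules) (hL : PicF.IsInvertible L)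
    (hnef : ∀ C : X.IdealSheafData, IsIntegral C.subscheme → topologicalKrullDim (C.support : Set X) = 1 →
      0 ≤ Curv2.euler k X (CohB1.tensorMod (ClSub.quotMod C) L) - Curv2.euler k X (ClSub.quotMod C))
    (x : X) (hx : IsClosed ({x} : Set X)) (l : ℕ)
    (Xt : Scheme.{u}) [Xt.Over (Spec (CommRingCat.of k))] (μ : Xt ⟶ X)
    (hμ : μ ≫ (X ↘ (Spec (CommRingCat.of k))) = Xt ↘ (Spec (CommRingCat.of k)))
    (hbl : BlowUp.IsBlowUp μ (W4c2seshadripos.pointIdeal x hx))
    (t : ℝ) (ht : ((n : ℝ) + l) < t)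
    (hε : ∀ C : Xt.IdealSheafData, IsIntegral C.subscheme → topologicalKrullDim (C.support : Set Xt) = 1 →
      (0 : ℝ) ≤ ((Curv2.euler k Xt (CohB1.tensorMod (ClSub.quotMod C) ((Scheme.Modules.pullback μ).obj L)) -
          Curv2.euler k Xt (ClSub.quotMod C) : ℤ) : ℝ) +
        t * ((Curv2.euler k Xt (CohB1.tensorMod (ClSub.quotMod C)
          (ClSub.idealMod (BlowUp.exceptional μ (W4c2seshadripos.pointIdeal x hx)))) -
            Curv2.euler k Xt (ClSub.quotMod C) : ℤ) : ℝ)) :
    W4c2seshadripos.SeparatesJets (CohB1.tensorMod ω L) x hx l := by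
  rcases n with _ | n
  · have hdim : topologicalKrullDim X = ((0 : ℕ) : WithBot ℕ∞) :=
      K658.RelDimComp.topologicalKrullDim_eq 0 (X ↘ (Spec (CommRingCat.of k)))
    have : Subsingleton X := Etcore.RootCover.subsingleton_of_dim_zero (by rw [hdim]; exact le_refl _)
    exact separatesJets_of_subsingleton _ x hx l
  · refine main_succ kv nak n A hA ω hω L hL ((K432.NefBasic.nef_iff_hyp L hL).1 hnef) x hx l μ hμ hbl t ht ?_
    intro C hC hdim
    have h := hε C hC hdim
    rw [K432.CurveDeg.euler_quotMod_sub C _ (Fdesc.LocGen.isInvertible_pullback μ hL),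
      K432.CurveDeg.euler_quotMod_sub C _ (Dix.IdealModCartier.isInvertible_idealMod hbl.1)] at h
    exact h

end K867.Main
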