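import Groth.Agent.Krr.H496.ExcBundle
import Groth.Agent.Krr.H484.PBCharts
import Groth.Agent.Krr.H478.SectSmooth
import Groth.Agent.Flat2C.BlowProper
import Groth.Agent.Divis.BlowUpFormal
import Groth.Agent.S1676
import Groth.Prelude.Def_W4c2seshadriposJets
import Mathlib.AlgebraicGeometry.AlgClosed.Basic

/-!
# The exceptional divisor of the blow-up of a closed point of a smooth variety

Over an algebraically closed field `k`, for `X` smooth of relative dimension `n + 1` over `k` and `x` a closed point,
the exceptional divisor of the blow-up of `x` is `P^n_k`, and the restriction of its ideal is `O(1)`.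
-/

set_option autoImplicit false

universe u

open AlgebraicGeometry CategoryTheory CategoryTheory.Limits TopologicalSpace

namespace K867.Exc

open Groth.Agent Groth.Agent.Sga67

variable {X X' : Scheme.{u}} {k : Type u} [Field k]

/-- The kernel of a morphism with reduced source is the vanishing ideal of the closure of its range. -/
theorem ker_eq_vanishingIdeal {Z : Scheme.{u}} (f : Z ⟶ X) [IsReduced Z] :
    f.ker = Scheme.IdealSheafData.vanishingIdeal ⟨closure (Set.range f), isClosed_closure⟩ := by
  have h1 := Scheme.IdealSheafData.map_vanishingIdeal f ⊤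
  rw [Scheme.IdealSheafData.vanishingIdeal_top, Scheme.nilradical_eq_bot,
    Scheme.IdealSheafData.map_bot] at h1
  rw [h1]
  congr 1
  ext x
  simp [TopologicalSpace.Closeds.closure]

/-- The rational point given by a closed point over an algebraically closed field. -/
theorem exists_point [IsAlgClosed k] (p : X ⟶ Spec (CommRingCat.of k)) [LocallyOfFiniteType p] [IsSeparated p]
    (x : X) (hx : IsClosed ({x} : Set X)) :
    ∃ t : Spec (CommRingCat.of k) ⟶ X, t ≫ p = 𝟙 _ ∧ IsClosedImmersion t ∧ Set.range t = {x} ∧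
      t.ker = W4c2seshadripos.pointIdeal x hx := by
  let t : Spec (CommRingCat.of k) ⟶ X := pointOfClosedPoint p x hx
  have ht : t ≫ p = 𝟙 _ := pointOfClosedPoint_comp p x hx
  have hta : ∀ z, t z = x := fun z => pointOfClosedPoint_apply p x hx z
  let c₀ : (Spec (CommRingCat.of k) : Scheme.{u}) := IsLocalRing.closedPoint k
  have hrt : Set.range t = {x} := by
    ext y
    constructor
    · rintro ⟨z, rfl⟩
      exact hta z
    · rintro rfl
      exact ⟨c₀, hta _⟩
  have hci : IsClosedImmersion t := by
    have : IsClosedImmersion (t ≫ p) := by rw [ht]; infer_instance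
    exact IsClosedImmersion.of_comp t p
  refine ⟨t, ht, hci, hrt, ?_⟩
  rw [ker_eq_vanishingIdeal t, W4c2seshadripos.pointIdeal]
  congr 1
  ext y
  change y ∈ closure (Set.range t) ↔ y ∈ ({x} : Set X)
  rw [hrt, hx.closure_eq]

/-- **The exceptional divisor of the blow-up of a rational point**: it is `P^n` with conormal module `O(1)`. -/
theorem exists_exc (n : ℕ) (p : X ⟶ Spec (CommRingCat.of k)) [SmoothOfRelativeDimension (n + 1) p]
    (t : Spec (CommRingCat.of k) ⟶ X) [IsClosedImmersion t] (ht : t ≫ p = 𝟙 _)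
    (π : X' ⟶ X) (hπ : BlowUp.IsBlowUp π t.ker) :
    ∃ i : CohB1.ProjSpace n k ⟶ X', IsClosedImmersion i ∧ i ≫ π = CohB1.ProjSpace.toSpec n k ≫ t ∧
      i.ker = t.ker.comap π ∧
      Nonempty ((Scheme.Modules.pullback i).obj (ClSub.idealMod (t.ker.comap π)) ≅ Twist.twistProjSpace n k 1) := by
  have hsm : Smooth p := SmoothOfRelativeDimension.smooth (n + 1) p
  have hreg : Mor2.IsRegularClosedImmersion t := S1676.result p t ht
  have hsq : IsPullback (pullback.fst π t) (pullback.snd π t) π t := IsPullback.of_hasPullback π t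
  have B := Krr.H496.ExcBundle.isProjBundle_exc hreg hπ hsq
  have hrk : FlatMod.IsFinLocFreeOfRank (n + 1) (Omega.conormal t) :=
    Krr.H478.SectSmooth.isFinLocFreeOfRank_conormal (n + 1) p t ht
  let y : (Spec (CommRingCat.of k) : Scheme.{u}) := IsLocalRing.closedPoint k
  have hy : ∀ z : (Spec (CommRingCat.of k) : Scheme.{u}), z = y := fun z =>
    Subsingleton.elim (α := PrimeSpectrum k) z y
  obtain ⟨U, hU, h1⟩ := hrk y
  obtain ⟨b, hb⟩ := LocBasis.nonempty_restrict_iso_iff.mp h1
  have hUt : U = ⊤ := by
    rw [eq_top_iff]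
    intro z _
    rw [hy z]
    exact hU
  subst hUt
  obtain ⟨e⟩ := LocBasis.nonempty_iso_free hb
  obtain ⟨j, hj, ⟨τ⟩⟩ := Krr.H484.PBCharts.exists_chart B (𝟙 (Spec (CommRingCat.of k)))
    ((Scheme.Modules.pullbackId _).app _ ≪≫ e)
  have h5 := hj.paste_horiz hsq
  rw [Category.id_comp] at h5
  have hci : IsClosedImmersion (j ≫ pullback.fst π t) :=
    MorphismProperty.of_isPullback (P := @IsClosedImmersion) h5.flip inferInstance
  have hk1 : (pullback.fst π t).ker = t.ker.comap π := Groth.Agent.Sga67.BlowReg.ker_of_isPullback hsq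
  refine ⟨j ≫ pullback.fst π t, hci, h5.w, Groth.Agent.Sga67.BlowReg.ker_of_isPullback h5, ⟨?_⟩⟩
  refine (Scheme.Modules.pullbackComp j (pullback.fst π t)).symm.app _ ≪≫
    (Scheme.Modules.pullback j).mapIso ?_ ≪≫ τ
  rw [← hk1]
  exact Iso.refl _

end K867.Exc
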