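import Groth.Agent.Vanish.K909.Kleiman
import Groth.Agent.Surf.K455.CutKer
import Groth.Agent.IntTh.K711.TwistCls
import Groth.Agent.CohqA.ProjDim

/-!
# Intersection numbers with an exceptional projective space

`X` proper over a field `k` of dimension `≤ n + 1`, `i : P^n ⟶ X` a closed immersion whose ideal `I` is invertible with
`i^* I ≅ O(1)`, and `P` a class with trivial restriction to `P^n`: then
`((p P + q [I])^(n + 1)) = p^(n + 1) (P^(n + 1)) - q^(n + 1)`.
-/

set_option autoImplicit false
universe u
open CategoryTheory CategoryTheory.Limits AlgebraicGeometry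

namespace K867.Inter

open Groth.Agent Groth.Agent.Fga.PicMon Groth.Agent.Grpsch.PicGrp K909.InterML K909.RootArg K909.Kleiman

section ideal

variable (k : Type u) [Field k] {X C : Scheme.{u}} [X.Over (Spec (CommRingCat.of k))]
  [C.Over (Spec (CommRingCat.of k))] [IsProper (X ↘ Spec (CommRingCat.of k))]
  (i : C ⟶ X) [IsClosedImmersion i] (hi : i ≫ (X ↘ Spec (CommRingCat.of k)) = C ↘ Spec (CommRingCat.of k))

theorem dim_support_unit {r : ℕ} (hr : topologicalKrullDim X ≤ r) :
    topologicalKrullDim (CohB1.support (Coh.structureModule X)) ≤ r := by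
  rw [Pic13.H970.Assembly.support_unit]
  exact (Topology.IsInducing.subtypeVal).topologicalKrullDim_le.trans hr

include hi in
/-- `([I] · c) = - (C · c)`. -/
theorem inter_ideal (d : ℕ) (hd : topologicalKrullDim X ≤ d) (I : X.IdealSheafData) (hI : i.ker = I)
    (hinv : PicF.IsInvertible (ClSub.idealMod I)) {r : ℕ} (hr : topologicalKrullDim X ≤ (r + 1 : ℕ))
    (c : Fin r → Pic X) :
    inter k X d (Coh.structureModule X) (Fin.cons (mk (ClSub.idealMod I) hinv) c : Fin (r + 1) → Pic X) =
      - inter k C d (Coh.structureModule C) (fun j => pull i (c j)) := by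
  have := Fga.IntAdd.isNoetherian k X
  have hO := CurvesC.UnitCoh.isCoh_unit X
  have h1 := inter_cons_zpow k X d hd (Coh.structureModule X) hO (mk (ClSub.idealMod I) hinv) (-1) c
    (dim_support_unit hr)
  rw [zpow_neg_one, inter_cons, inv_inv, Pic13.H970.IntForm.I_cons_mk] at h1
  have h2 : Pic13.H970.IntForm.I k X d (CohB1.tensorMod (ClSub.idealMod I) (Coh.structureModule X))
      (fun j => (c j)⁻¹) = inter k X d (ClSub.idealMod I) c := by
    rw [← inter_iso k X d _ (Ega2.Tens.runit (ClSub.idealMod I)) c]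
    rfl
  have h3 : Pic13.H970.IntForm.I k X d (Coh.structureModule X) (fun j => (c j)⁻¹) =
      inter k X d (Coh.structureModule X) c := rfl
  rw [h2, h3] at h1
  have hadd := isAdd_inter k X d hd c
    (ShortComplex.mk (ClSub.idealModι I) (ClSub.toSubscheme I) (kernel.condition _))
    (Sga2.LefPow644.shortExact_idealMod I) (VarietyB.DegCartier.isCoh_idealMod I) hO
    (CycB.ClosSheaf.isCoh_push_structureModule I.subschemeι)
  have h4 : inter k X d (Coh.structureModule X) c =
      inter k X d (ClSub.idealMod I) c + inter k X d (ClSub.quotMod I) c := hadd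
  obtain ⟨e⟩ := K455.CutKer.nonempty_push_iso_quotMod i I hI
  have h5 : inter k X d (ClSub.quotMod I) c = inter k C d (Coh.structureModule C) (fun j => pull i (c j)) := by
    rw [← inter_iso k X d _ e c]
    exact inter_push k i hi d c _
  rw [← h5]
  linarith

end ideal

section indep

theorem inter_indep (k : Type u) [Field k] (X : Scheme.{u}) [X.Over (Spec (CommRingCat.of k))]
    [IsProper (X ↘ Spec (CommRingCat.of k))] (d e : ℕ) (hd : topologicalKrullDim X ≤ d)
    (he : topologicalKrullDim X ≤ e) (F : X.Modules) {r : ℕ} (c : Fin r → Pic X) :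
    inter k X d F c = inter k X e F c := by
  have h : chiCl k X d F = chiCl k X e F := by
    funext x
    induction x using MC.ind with | h L => ?_
    rw [chiCl_mc, chiCl_mc, Pic13.H972.Glue.euler_eq_euler k X d e hd he]
  unfold inter Pic13.H970.IntForm.I
  rw [h]

end indep

section exc

variable (k : Type u) [Field k] {X : Scheme.{u}} [X.Over (Spec (CommRingCat.of k))]
  [IsProper (X ↘ Spec (CommRingCat.of k))] (n : ℕ)
  (i : CohB1.ProjSpace n k ⟶ X) [IsClosedImmersion i]

omit [X.Over (Spec (CommRingCat.of k))] [IsProper (X ↘ Spec (CommRingCat.of k))] [IsClosedImmersion i] in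
/-- The self-intersection of `O(1)` on `P^n`. -/
theorem inter_twist (d : ℕ) (hd : n ≤ d) :
    inter k (CohB1.ProjSpace n k) d (Coh.structureModule _)
      (fun _ : Fin n => mk (Twist.twistProjSpace n k 1) (K711.TwistCls.isInvertible_twist n k 1)) = 1 := by
  have h1 := inter_mk k (CohB1.ProjSpace n k) n (Coh.structureModule _)
    (fun _ : Fin n => Twist.twistProjSpace n k 1) (fun _ : Fin n => Twist.twistProjSpace n k (-1))
    (fun _ => K711.TwistCls.isInvertible_twist n k 1) (fun _ => K711.TwistCls.isInvertible_twist n k (-1))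
    (fun _ => by
      have h := K711.TwistCls.mc_mul n k 1 (-1)
      rw [← mc_tensor, add_neg_cancel, K711.TwistCls.mc_zero, ← mc_one] at h
      exact (mc_eq_iff _ _).1 h)
  rw [K711.TwistCls.intNum_neg_one] at h1
  have : IsProper (CohB1.ProjSpace n k ↘ Spec (CommRingCat.of k)) :=
    inferInstanceAs (IsProper (CohB1.ProjSpace.toSpec n k))
  have hdim : topologicalKrullDim (CohB1.ProjSpace n k) ≤ n := CohqA.ProjDim.topologicalKrullDim_le k n
  exact (inter_indep k _ d n (hdim.trans (by exact_mod_cast hd)) hdim _ _).trans h1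

variable (hi : i ≫ (X ↘ Spec (CommRingCat.of k)) = CohB1.ProjSpace.toSpec n k)
  (d : ℕ) (hd : topologicalKrullDim X ≤ d) (hn : topologicalKrullDim X ≤ (n + 1 : ℕ)) (hnd : n ≤ d)
  (I : X.IdealSheafData) (hI : i.ker = I) (hinv : PicF.IsInvertible (ClSub.idealMod I))

include hi hd hn hnd hI in
/-- A class on `X` which is trivial on the exceptional divisor is orthogonal to it. -/
theorem inter_exc_eq_zero (P : Pic X) (hP1 : pull i P = 1) (c : Fin (n + 1) → Pic X) (s t : Fin (n + 1)) (hst : s ≠ t)
    (hs : c s = P) (ht : c t = mk (ClSub.idealMod I) hinv) : inter k X d (Coh.structureModule X) c = 0 := by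
  have hPr : IsProper (CohB1.ProjSpace n k ↘ Spec (CommRingCat.of k)) :=
    inferInstanceAs (IsProper (CohB1.ProjSpace.toSpec n k))
  have hdim : topologicalKrullDim (CohB1.ProjSpace n k) ≤ n := CohqA.ProjDim.topologicalKrullDim_le k n
  have := Fga.IntAdd.isNoetherian k (CohB1.ProjSpace n k)
  let σ : Equiv.Perm (Fin (n + 1)) := Equiv.swap 0 t
  have h1 : (fun j => c (σ j)) =
      (Fin.cons (mk (ClSub.idealMod I) hinv) (fun j : Fin n => c (σ j.succ)) : Fin (n + 1) → Pic X) := by
    funext j
    cases j using Fin.cases with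
    | zero => rw [Fin.cons_zero, ← ht]; exact congrArg c (Equiv.swap_apply_left 0 t)
    | succ j => rw [Fin.cons_succ]
  rw [← inter_perm k X d (Coh.structureModule X) c σ, h1, inter_ideal k i hi d hd I hI hinv hn, neg_eq_zero]
  have h2 : σ s ≠ 0 := by
    intro h
    have : σ s = σ t := h.trans (Equiv.swap_apply_right 0 t).symm
    exact hst (σ.injective this)
  obtain ⟨j, hj⟩ := Fin.exists_succ_eq.2 h2
  have h3 : pull i (c (σ j.succ)) = 1 := by
    rw [hj, Equiv.swap_apply_self, hs, hP1]
  have h4 := (ml k (CohB1.ProjSpace n k) d (hdim.trans (by exact_mod_cast hnd)) (Coh.structureModule _)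
    (CurvesC.UnitCoh.isCoh_unit _) (dim_support_unit hdim)).map_coord_zero (m := fun j => Additive.ofMul
      (pull i (c (σ j.succ)))) j (by rw [h3]; rfl)
  exact h4

include hi hd hn hnd hI in
/-- `([I]^(n + 1)) = -1`. -/
theorem inter_exc_self
    (hO1 : Nonempty ((Scheme.Modules.pullback i).obj (ClSub.idealMod I) ≅ Twist.twistProjSpace n k 1)) :
    inter k X d (Coh.structureModule X) (fun _ : Fin (n + 1) => mk (ClSub.idealMod I) hinv) = -1 := by
  have hpull : pull i (mk (ClSub.idealMod I) hinv) =
      mk (Twist.twistProjSpace n k 1) (K711.TwistCls.isInvertible_twist n k 1) := by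
    rw [pull_mk]
    exact mk_congr hO1.some
  have e : (fun _ : Fin (n + 1) => mk (ClSub.idealMod I) hinv) =
      (Fin.cons (mk (ClSub.idealMod I) hinv) (fun _ : Fin n => mk (ClSub.idealMod I) hinv) : Fin (n + 1) → Pic X) :=
    (cons_const _).symm
  rw [e, inter_ideal k i hi d hd I hI hinv hn]
  simp only [hpull]
  rw [inter_twist k n d hnd]

include hi hd hn hnd hI in
/-- **The self-intersection of `p P + q [I]`** for a class `P` trivial on the exceptional divisor. -/
theorem inter_combo (hO1 : Nonempty ((Scheme.Modules.pullback i).obj (ClSub.idealMod I) ≅ Twist.twistProjSpace n k 1))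
    (P : Pic X) (hP1 : pull i P = 1) (p q : ℕ) :
    inter k X d (Coh.structureModule X) (fun _ : Fin (n + 1) => P ^ p * mk (ClSub.idealMod I) hinv ^ q) =
      (p : ℤ) ^ (n + 1) * inter k X d (Coh.structureModule X) (fun _ : Fin (n + 1) => P) - (q : ℤ) ^ (n + 1) := by
  have := Fga.IntAdd.isNoetherian k X
  let f := ml k X d hd (Coh.structureModule X) (CurvesC.UnitCoh.isCoh_unit X) (dim_support_unit hn)
  have h := map_combo f (Additive.ofMul P) (Additive.ofMul (mk (ClSub.idealMod I) hinv)) p q
  have h1 : f (fun _ => p • Additive.ofMul P + q • Additive.ofMul (mk (ClSub.idealMod I) hinv)) =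
      inter k X d (Coh.structureModule X) (fun _ : Fin (n + 1) => P ^ p * mk (ClSub.idealMod I) hinv ^ q) := rfl
  rw [← h1, h]
  have hne : (∅ : Finset (Fin (n + 1))) ≠ Finset.univ := by
    intro h
    have : (0 : Fin (n + 1)) ∈ (∅ : Finset (Fin (n + 1))) := by rw [h]; exact Finset.mem_univ _
    simp at this
  rw [← Finset.sum_subset (Finset.subset_univ ({∅, Finset.univ} : Finset (Finset (Fin (n + 1))))), Finset.sum_pair hne,
    mixv_univ, mixv_empty]
  · have h2 : f (fun _ => Additive.ofMul P) = inter k X d (Coh.structureModule X) (fun _ : Fin (n + 1) => P) := rfl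
    have h3 : f (fun _ => Additive.ofMul (mk (ClSub.idealMod I) hinv)) =
        inter k X d (Coh.structureModule X) (fun _ : Fin (n + 1) => mk (ClSub.idealMod I) hinv) := rfl
    rw [h2, h3, inter_exc_self k n i hi d hd hn hnd I hI hinv hO1]
    simp
    ring
  · intro s _ hs
    rw [Finset.mem_insert, Finset.mem_singleton, not_or] at hs
    obtain ⟨s0, hs0⟩ := Finset.nonempty_iff_ne_empty.2 hs.1
    obtain ⟨t0, ht0⟩ : ∃ t, t ∉ s := by
      by_contra hcon
      push Not at hcon
      exact hs.2 (Finset.eq_univ_iff_forall.2 hcon)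
    have h2 : mixv f (Additive.ofMul P) (Additive.ofMul (mk (ClSub.idealMod I) hinv)) s =
        inter k X d (Coh.structureModule X) (fun j => ((s.piecewise (fun _ => Additive.ofMul P)
          (fun _ => Additive.ofMul (mk (ClSub.idealMod I) hinv)) : Fin (n + 1) → Additive (Pic X)) j).toMul) := rfl
    rw [h2, inter_exc_eq_zero k n i hi d hd hn hnd I hI hinv P hP1 _ s0 t0 (fun h => ht0 (h ▸ hs0)), mul_zero]
    · simp [Finset.piecewise, hs0]
    · simp [Finset.piecewise, ht0]

end exc

end K867.Inter
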