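import Groth.Agent.EGA41.K104.QuasiReg
import Groth.Agent.Sga67.BlowQuot
import Groth.Agent.Sga67.BlowPerf2
import Groth.Agent.Divis.IdealComap
import Groth.Agent.Divis.CartierBasic

/-!
# Orders of vanishing along the exceptional divisor

Let `b : X' ⟶ X` be the blow-up of an ideal sheaf `I` whose stalk at `x` is generated by a quasi-regular sequence of
positive length.  If `K` is an ideal sheaf with `K O_{X'} ⊆ (I O_{X'})^j` then `K_x ⊆ (I_x)^j`.
-/

set_option autoImplicit false
universe u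

open BlowUp CategoryTheory CategoryTheory.Limits AlgebraicGeometry

namespace K867.OrdBlow

open Groth.Agent Groth.Agent.Sga67.BlowQuot Groth.Agent.Sga67.BlowPerf Groth.Agent.Divis.CartierBasic

section alg

variable {A : Type u} [CommRing A] {c : ℕ} {f : Fin c → A}

theorem mem_pow_of_pow_mul (hf : CAlgX.IsQuasiRegular f) (k : Fin c) (N j : ℕ) (z : A)
    (hz : f k ^ N * z ∈ Ideal.span (Set.range f) ^ (j + N)) : z ∈ Ideal.span (Set.range f) ^ j := by
  induction N with
  | zero => simpa using hz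
  | succ N ih =>
    refine ih (K104.QuasiReg.mem_pow_of_mul_mem hf k (j + N) _ ?_)
    rw [← mul_assoc, ← pow_succ']
    exact hz

/-- `x_k ^ j A[I/x_k] ∩ A = I ^ j` for `I` generated by a quasi-regular sequence. -/
theorem mem_pow_of_algebraMap_mem (hf : CAlgX.IsQuasiRegular f) (k : Fin c) (j : ℕ) (a : A)
    (h : algebraMap A (affineAlgebra A (Ideal.span (Set.range f)) (f k)) a ∈
      Ideal.span {algebraMap A (affineAlgebra A (Ideal.span (Set.range f)) (f k)) (f k)} ^ j) :
    a ∈ Ideal.span (Set.range f) ^ j := by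
  have hk : f k ∈ Ideal.span (Set.range f) := Ideal.subset_span ⟨k, rfl⟩
  rw [Ideal.span_singleton_pow, Ideal.mem_span_singleton] at h
  obtain ⟨q, hq⟩ := h
  obtain ⟨n, y, hy, hnq⟩ := exists_pow_mul_eq _ (f k) hk q
  have h1 : algebraMap A (affineAlgebra A (Ideal.span (Set.range f)) (f k)) (f k ^ n * a) =
      algebraMap A _ (f k ^ j * y) := by
    rw [map_mul, map_mul, hq, ← hnq, map_pow, map_pow]
    ring
  have h2 : algebraMap A (Localization.Away (f k)) (f k ^ n * a) =
      algebraMap A (Localization.Away (f k)) (f k ^ j * y) := congrArg Subtype.val h1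
  obtain ⟨⟨_, M, rfl⟩, hM⟩ := (IsLocalization.eq_iff_exists (Submonoid.powers (f k)) _).1 h2
  refine mem_pow_of_pow_mul hf k (M + n) j a ?_
  have e1 : f k ^ (M + n) * a = f k ^ M * (f k ^ j * y) := by
    rw [pow_add, mul_assoc]
    exact hM
  have e : j + (M + n) = M + (j + n) := by ring
  rw [e1, e, pow_add _ M, pow_add _ j]
  exact Ideal.mul_mem_mul (Ideal.pow_mem_pow hk M) (Ideal.mul_mem_mul (Ideal.pow_mem_pow hk j) hy)

theorem map_affineAlgebra (I : Ideal A) (a : A) (ha : a ∈ I) :
    I.map (algebraMap A (affineAlgebra A I a)) = Ideal.span {algebraMap A (affineAlgebra A I a) a} := by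
  apply le_antisymm
  · rw [Ideal.map_le_iff_le_comap]
    intro x hx
    rw [Ideal.mem_comap, Ideal.mem_span_singleton]
    exact ⟨frac I a x hx, (algebraMap_mul_frac I a x hx).symm⟩
  · rw [Ideal.span_singleton_le_iff_mem]
    exact Ideal.mem_map_of_mem _ ha

theorem algebraMap_mem_nonZeroDivisors (I : Ideal A) (a : A) :
    algebraMap A (affineAlgebra A I a) a ∈ nonZeroDivisors (affineAlgebra A I a) := by
  rw [mem_nonZeroDivisors_iff_left]
  intro y hy
  apply Subtype.ext
  have h := congrArg Subtype.val hy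
  have hu : IsUnit (algebraMap A (Localization.Away a) a) :=
    IsLocalization.map_units (Localization.Away a) (⟨a, Submonoid.mem_powers a⟩ : Submonoid.powers a)
  exact hu.mul_right_eq_zero.1 h

end alg

section sch

/-- The ideal on `Spec B` obtained by pulling back an ideal sheaf along `Spec B ⟶ Spec O_{X,x} ⟶ X`. -/
theorem ideal_comap_spec {X : Scheme.{u}} (J : X.IdealSheafData) (x : X) {B : CommRingCat.{u}}
    (φ : X.presheaf.stalk x ⟶ B) :
    (J.comap (Spec.map φ ≫ X.fromSpecStalk x)).ideal ⟨⊤, isAffineOpen_top _⟩ =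
      ((stalkIdeal J x).map φ.hom).map (Scheme.ΓSpecIso B).inv.hom := by
  obtain ⟨U, hxU⟩ := exists_affine x
  have e : (⊤ : (Spec (X.presheaf.stalk x)).Opens) ≤ X.fromSpecStalk x ⁻¹ᵁ U.1 := by
    intro z _
    have hz : X.fromSpecStalk x z ⤳ x := by
      have : X.fromSpecStalk x z ∈ Set.range (X.fromSpecStalk x) := ⟨z, rfl⟩
      rwa [Scheme.range_fromSpecStalk] at this
    exact hz.mem_open U.1.isOpen hxU
  have h1 : (J.comap (X.fromSpecStalk x)).ideal ⟨⊤, isAffineOpen_top _⟩ =
      (stalkIdeal J x).map (Scheme.ΓSpecIso (X.presheaf.stalk x)).inv.hom := by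
    rw [Groth.Agent.Divis.IdealComap.ideal_comap J (X.fromSpecStalk x) U ⟨⊤, isAffineOpen_top _⟩ e,
      stalkIdeal_eq J U hxU, Ideal.map_map, ← CommRingCat.hom_comp]
    congr 2
    rw [Scheme.Hom.appLE, Scheme.fromSpecStalk_app hxU, Category.assoc, Category.assoc]
    rw [← Functor.map_comp]
    have : (homOfLE (le_top (a := X.fromSpecStalk x ⁻¹ᵁ U.1))).op ≫ (homOfLE e).op =
        𝟙 (Opposite.op (⊤ : (Spec (X.presheaf.stalk x)).Opens)) := rfl
    rw [this, CategoryTheory.Functor.map_id, Category.comp_id]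
  rw [Scheme.IdealSheafData.comap_comp, Groth.Agent.Divis.IdealComap.ideal_comap_top, h1, Ideal.map_map,
    Ideal.map_map, ← CommRingCat.hom_comp, ← CommRingCat.hom_comp, Scheme.ΓSpecIso_inv_naturality]

variable {X X' : Scheme.{u}} (b : X' ⟶ X) (I : X.IdealSheafData) (hb : BlowUp.IsBlowUp b I)

include hb in
/-- **Order of vanishing along the exceptional divisor**. -/
theorem stalkIdeal_le_pow (x : X) {c : ℕ} (f : Fin c → X.presheaf.stalk x) (hf : CAlgX.IsQuasiRegular f)
    (k : Fin c) (hI : stalkIdeal I x = Ideal.span (Set.range f)) (K : X.IdealSheafData) (j : ℕ)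
    (h : K.comap b ≤ (I.comap b) ^ j) : stalkIdeal K x ≤ stalkIdeal I x ^ j := by
  let A := X.presheaf.stalk x
  let B' := affineAlgebra A (Ideal.span (Set.range f)) (f k)
  let φ : X.presheaf.stalk x ⟶ CommRingCat.of B' := CommRingCat.ofHom (algebraMap A B')
  have hk : f k ∈ Ideal.span (Set.range f) := Ideal.subset_span ⟨k, rfl⟩
  let g := Spec.map φ ≫ X.fromSpecStalk x
  have hIg : (I.comap g).ideal ⟨⊤, isAffineOpen_top _⟩ =
      Ideal.span {(Scheme.ΓSpecIso (CommRingCat.of B')).inv.hom (algebraMap A B' (f k))} := by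
    rw [ideal_comap_spec, hI]
    have h0 : (Ideal.span (Set.range f)).map φ.hom = Ideal.span {algebraMap A B' (f k)} :=
      map_affineAlgebra _ (f k) hk
    rw [h0, Ideal.map_span, Set.image_singleton]
  have heff : IsEffCartierIdeal (I.comap g) := by
    intro t
    refine ⟨⟨⊤, isAffineOpen_top _⟩, trivial, _, ?_, hIg⟩
    have hbij : Function.Bijective (Scheme.ΓSpecIso (CommRingCat.of B')).inv.hom :=
      ConcreteCategory.bijective_of_isIso _
    rw [mem_nonZeroDivisors_iff_left]
    intro y hy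
    obtain ⟨y, rfl⟩ := hbij.2 y
    rw [← map_mul, ← map_zero (Scheme.ΓSpecIso (CommRingCat.of B')).inv.hom] at hy
    have h1 := hbij.1 hy
    rw [(mem_nonZeroDivisors_iff_left.1 (algebraMap_mem_nonZeroDivisors (A := A) (Ideal.span (Set.range f)) (f k))) y h1,
      map_zero]
  obtain ⟨l, hl, -⟩ := hb.2 _ g heff
  have h2 : K.comap g ≤ (I.comap g) ^ j := by
    rw [← hl, Scheme.IdealSheafData.comap_comp, Scheme.IdealSheafData.comap_comp,
      ← Groth.Agent.Divis.IdealComap.comap_pow]
    exact Scheme.IdealSheafData.comap_mono l h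
  have h3 := h2 ⟨⊤, isAffineOpen_top _⟩
  rw [ideal_comap_spec] at h3
  intro a ha
  rw [hI]
  refine mem_pow_of_algebraMap_mem hf k j a ?_
  have h4 := h3 (Ideal.mem_map_of_mem _ (Ideal.mem_map_of_mem φ.hom ha))
  have h5 : ((I.comap g) ^ j).ideal ⟨⊤, isAffineOpen_top _⟩ = ((I.comap g).ideal ⟨⊤, isAffineOpen_top _⟩) ^ j := by
    simp
  rw [h5, hIg] at h4
  have hbij : Function.Bijective (Scheme.ΓSpecIso (CommRingCat.of B')).inv.hom :=
    ConcreteCategory.bijective_of_isIso _
  have h6 : Ideal.span {(Scheme.ΓSpecIso (CommRingCat.of B')).inv.hom (algebraMap A B' (f k))} ^ j =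
      (Ideal.span {algebraMap A B' (f k)} ^ j).map (Scheme.ΓSpecIso (CommRingCat.of B')).inv.hom := by
    rw [Ideal.map_pow, Ideal.map_span, Set.image_singleton]
  rw [h6, Ideal.mem_map_iff_of_surjective _ hbij.2] at h4
  obtain ⟨y, hy, hye⟩ := h4
  have h7 : y = algebraMap A B' a := hbij.1 hye
  rw [← h7]
  exact hy

end sch

end K867.OrdBlow
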