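import Groth.Agent.Sga2.ThickSec
import Groth.Agent.W4c2seshadripos.K850.JetStalk
import Groth.Agent.W4c2seshadripos.K867.OrdBlow
import Groth.Agent.PicF.K245.DescUnit
import Groth.Agent.CycB.ModStalk

/-!
# Jets from the blow-up

Let `b : X' ⟶ X` be the blow-up of a closed point `x` with regular local ring of positive dimension, such that
`O_X → b_* O_{X'}` is an isomorphism, `F` invertible on `X`.  If `H^1(X', b^*F ⊗ I_E^{l+1}) = 0` then `F` separates
`l`-jets at `x`.
-/

set_option autoImplicit false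
universe u

open CategoryTheory CategoryTheory.Limits AlgebraicGeometry TopologicalSpace Opposite

namespace K867.Jets

open Groth.Agent Groth.Agent.Fdesc.LocGen Groth.Agent.Divis.CartierBasic Groth.Agent.Divis.CartierStalk

variable {X X' : Scheme.{u}}

theorem pull_bijective {b : X' ⟶ X} (hO : ∀ V : X.Opens, IsIso (b.app V)) {F : X.Modules}
    (hF : VarietyB.TensCoh.HasBases F) (V : X.Opens) :
    Function.Bijective (fun s : Γ(F, V) => pullSec b s) := by
  have h1 := K245.DescUnit.isIso_unit_of_hasBases b hO hF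
  exact ConcreteCategory.bijective_of_isIso (((Scheme.Modules.pullbackPushforwardAdjunction b).unit.app F).app V)

theorem mem_stalkIdeal_of_mem (K : X.IdealSheafData) (V : X.affineOpens) {x : X} (hx : x ∈ V.1) {f : Γ(X, V.1)}
    (hf : f ∈ K.ideal V) : X.presheaf.germ V.1 x hx f ∈ stalkIdeal K x := by
  rw [stalkIdeal_eq K V hx]
  exact Ideal.mem_map_of_mem _ hf

theorem separatesJets_of_vanish {b : X' ⟶ X} [QuasiCompact b] (hO : ∀ V : X.Opens, IsIso (b.app V))
    (x : X) (hx : IsClosed ({x} : Set X))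
    (hb : BlowUp.IsBlowUp b (W4c2seshadripos.pointIdeal x hx))
    {c : ℕ} (f : Fin c → X.presheaf.stalk x) (hf : CAlgX.IsQuasiRegular f) (k : Fin c)
    (hm : IsLocalRing.maximalIdeal (X.presheaf.stalk x) = Ideal.span (Set.range f))
    {F : X.Modules} (hF : PicF.IsInvertible F) (hF' : VarietyB.TensCoh.HasBases F) (l : ℕ)
    (h : Subsingleton (Coh.HH X' (CohB1.tensorMod ((Scheme.Modules.pullback b).obj F)
      (CohB1.tensorPow (ClSub.idealMod (BlowUp.exceptional b (W4c2seshadripos.pointIdeal x hx))) (l + 1))) 1)) :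
    W4c2seshadripos.SeparatesJets F x hx l := by
  rw [K850.JetStalk.separatesJets_iff]
  intro t
  set I := W4c2seshadripos.pointIdeal x hx with hI
  set D := BlowUp.exceptional b I with hD
  set ι := (D ^ (l + 1)).subschemeι with hι
  obtain ⟨W, hxW, a', rfl⟩ := TopCat.Presheaf.exists_germ_eq F.presheaf t
  obtain ⟨U₁, e₁, hxU₁, he₁⟩ := (isInvertible_iff F).1 hF x
  obtain ⟨V, hxV, hV⟩ := Sga2.HomGens.exists_affine_mem_le (U := W ⊓ U₁) (x := x) ⟨hxW, hxU₁⟩
  let e := res F (hV.trans inf_le_right) e₁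
  have he : IsGen e := he₁.res _
  let a := res F (hV.trans inf_le_left) a'
  -- the thickened divisor lies over `x`
  have hY : ι ⁻¹ᵁ (b ⁻¹ᵁ V.1) = ⊤ := by
    rw [eq_top_iff]
    intro z _
    change b (ι z) ∈ V.1
    have h1 : ι z ∈ ((D ^ (l + 1)).support : Set X') := by
      rw [← Scheme.IdealSheafData.range_subschemeι]
      exact ⟨z, rfl⟩
    have h2 : ι z ∈ (D.support : Set X') := h1
    have h3 : b (ι z) ∈ (I.support : Set X) := by
      have h5 : (D.support : Set X') = b ⁻¹' (I.support : Set X) :=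
        congrArg (fun K : Closeds X' => (K : Set X')) (Scheme.IdealSheafData.support_comap I b)
      have h6 : ι z ∈ b ⁻¹' (I.support : Set X) := h5 ▸ h2
      exact h6
    have h4 : (I.support : Set X) = {x} := Scheme.IdealSheafData.coe_support_vanishingIdeal _
    rw [h4] at h3
    rw [Set.mem_singleton_iff] at h3
    rw [h3]
    exact hxV
  have hs := Sga2.ThickSec.pullTop_surjective hb.1 (isInvertible_pullback b hF) (l + 1) h
  obtain ⟨c', hc'⟩ := hs (res ((Scheme.Modules.pullback ι).obj ((Scheme.Modules.pullback b).obj F)) hY.ge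
    (pullSec ι (pullSec b a)))
  obtain ⟨s, hs'⟩ := (pull_bijective hO hF' ⊤).2 c'
  refine ⟨s, ?_⟩
  obtain ⟨g, hg⟩ := he.exists_eq (a - res F le_top s)
  have hsub : ∀ {Z Z' : Scheme.{u}} (p : Z ⟶ Z') {M : Z'.Modules} {U : Z'.Opens} (m n : Γ(M, U)),
      pullSec p (m - n) = pullSec p m - pullSec p n := by
    intro Z Z' p M U m n
    exact map_sub (((Scheme.Modules.pullbackPushforwardAdjunction p).unit.app M).app U).hom m n
  have h0 : pullSec ι (pullSec b (a - res F le_top s)) = 0 := by
    rw [hsub, hsub, sub_eq_zero, ← res_pullSec b le_top s, ← res_pullSec ι (b.preimage_mono le_top)]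
    have h1 : pullSec ι (pullSec b s) = res ((Scheme.Modules.pullback ι).obj ((Scheme.Modules.pullback b).obj F)) hY.ge
        (pullSec ι (pullSec b a)) := by
      rw [← hc', ← hs']
      rfl
    have h2 : ∀ (V₁ : (D ^ (l + 1)).subscheme.Opens) (hV₁ : V₁ = ⊤)
        (r : Γ((Scheme.Modules.pullback ι).obj ((Scheme.Modules.pullback b).obj F), V₁)),
        res ((Scheme.Modules.pullback ι).obj ((Scheme.Modules.pullback b).obj F)) le_top
          (res ((Scheme.Modules.pullback ι).obj ((Scheme.Modules.pullback b).obj F)) hV₁.ge r) = r := by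
      rintro _ rfl r
      simp
    refine ((congrArg (res _ le_top) h1).trans (h2 _ hY _)).symm.trans ?_
    rfl
  rw [hg, pullSec_smul, pullSec_smul] at h0
  have h1 : IsGen (pullSec ι (pullSec b e)) := (he.pullSec b).pullSec ι
  have h2 : (ι.app (b ⁻¹ᵁ V.1) (b.app V.1 g) : Γ((D ^ (l + 1)).subscheme, ι ⁻¹ᵁ (b ⁻¹ᵁ V.1))) = 0 :=
    h1.ext (by rw [zero_smul]; exact h0)
  have h3 : g ∈ ((D ^ (l + 1)).map b).ideal V := by
    rw [Scheme.IdealSheafData.map, Scheme.Hom.ker_apply, RingHom.mem_ker]
    rw [Scheme.Hom.comp_app]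
    exact h2
  have h4 := OrdBlow.stalkIdeal_le_pow b I hb x f hf k
    ((K850.JetStalk.stalkIdeal_pointIdeal x hx).trans hm) ((D ^ (l + 1)).map b) (l + 1)
    (Scheme.IdealSheafData.comap_map_le _ _)
  have h5 := h4 (mem_stalkIdeal_of_mem _ V hxV h3)
  rw [K850.JetStalk.stalkIdeal_pointIdeal] at h5
  have h6 : F.presheaf.germ W x hxW a' - F.presheaf.germ ⊤ x trivial s =
      X.presheaf.germ V.1 x hxV g • F.presheaf.germ V.1 x hxV e := by
    rw [← CycB.ModStalk.germ_smul, ← hg, map_sub]
    congr 1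
    · exact (TopCat.Presheaf.germ_res_apply F.presheaf (homOfLE (hV.trans inf_le_left)) x hxV a').symm
    · exact (TopCat.Presheaf.germ_res_apply F.presheaf (homOfLE le_top) x hxV s).symm
  rw [h6]
  exact Submodule.smul_mem_smul h5 trivial

end K867.Jets
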